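import Cfsg.Agent.Lib.J4M24Bound96.Top.Data

/-! Generated row checks (`Top`). -/

namespace Cfsg.Agent.Lib.J4M24Bound96.Top

open Cfsg.Agent.Lib.CosetTable

set_option maxRecDepth 10000

theorem rows1_run1 : rangeAll (cert.rowOK tab 78890) 128 0 = true := by decide +kernel

theorem rows1_run2 : rangeAll (cert.rowOK tab 78890) 128 128 = true := by decide +kernel

theorem rows1_run3 : rangeAll (cert.rowOK tab 78890) 128 256 = true := by decide +kernel

theorem rows1_run4 : rangeAll (cert.rowOK tab 78890) 128 384 = true := by decide +kernel

theorem rows1_run5 : rangeAll (cert.rowOK tab 78890) 128 512 = true := by decide +kernel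

theorem rows1_run6 : rangeAll (cert.rowOK tab 78890) 128 640 = true := by decide +kernel

theorem rows1_run7 : rangeAll (cert.rowOK tab 78890) 128 768 = true := by decide +kernel

theorem rows1_run8 : rangeAll (cert.rowOK tab 78890) 128 896 = true := by decide +kernel

theorem rows1_run9 : rangeAll (cert.rowOK tab 78890) 128 1024 = true := by decide +kernel

theorem rows1_run10 : rangeAll (cert.rowOK tab 78890) 128 1152 = true := by decide +kernel

theorem rows1_run11 : rangeAll (cert.rowOK tab 78890) 128 1280 = true := by decide +kernel

theorem rows1_run12 : rangeAll (cert.rowOK tab 78890) 128 1408 = true := by decide +kernel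

theorem rows1_run13 : rangeAll (cert.rowOK tab 78890) 128 1536 = true := by decide +kernel

theorem rows1_run14 : rangeAll (cert.rowOK tab 78890) 128 1664 = true := by decide +kernel

theorem rows1_run15 : rangeAll (cert.rowOK tab 78890) 128 1792 = true := by decide +kernel

theorem rows1_run16 : rangeAll (cert.rowOK tab 78890) 128 1920 = true := by decide +kernel

theorem rows1_run17 : rangeAll (cert.rowOK tab 78890) 128 2048 = true := by decide +kernel

theorem rows1_run18 : rangeAll (cert.rowOK tab 78890) 128 2176 = true := by decide +kernel

theorem rows1_run19 : rangeAll (cert.rowOK tab 78890) 128 2304 = true := by decide +kernel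

theorem rows1_run20 : rangeAll (cert.rowOK tab 78890) 128 2432 = true := by decide +kernel

theorem rows1_run21 : rangeAll (cert.rowOK tab 78890) 128 2560 = true := by decide +kernel

theorem rows1_run22 : rangeAll (cert.rowOK tab 78890) 128 2688 = true := by decide +kernel

theorem rows1_run23 : rangeAll (cert.rowOK tab 78890) 128 2816 = true := by decide +kernel

theorem rows1_run24 : rangeAll (cert.rowOK tab 78890) 128 2944 = true := by decide +kernel

theorem rows1_run25 : rangeAll (cert.rowOK tab 78890) 128 3072 = true := by decide +kernel

theorem rows1_run26 : rangeAll (cert.rowOK tab 78890) 128 3200 = true := by decide +kernel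

theorem rows1_run27 : rangeAll (cert.rowOK tab 78890) 128 3328 = true := by decide +kernel

theorem rows1_run28 : rangeAll (cert.rowOK tab 78890) 128 3456 = true := by decide +kernel

theorem rows1_run29 : rangeAll (cert.rowOK tab 78890) 128 3584 = true := by decide +kernel

theorem rows1_run30 : rangeAll (cert.rowOK tab 78890) 128 3712 = true := by decide +kernel

theorem rows1_run31 : rangeAll (cert.rowOK tab 78890) 128 3840 = true := by decide +kernel

theorem rows1_run32 : rangeAll (cert.rowOK tab 78890) 128 3968 = true := by decide +kernel

theorem rows1_run33 : rangeAll (cert.rowOK tab 78890) 128 4096 = true := by decide +kernel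

theorem rows1_run34 : rangeAll (cert.rowOK tab 78890) 128 4224 = true := by decide +kernel

theorem rows1_run35 : rangeAll (cert.rowOK tab 78890) 128 4352 = true := by decide +kernel

theorem rows1_run36 : rangeAll (cert.rowOK tab 78890) 128 4480 = true := by decide +kernel

theorem rows1_run37 : rangeAll (cert.rowOK tab 78890) 128 4608 = true := by decide +kernel

theorem rows1_run38 : rangeAll (cert.rowOK tab 78890) 128 4736 = true := by decide +kernel

theorem rows1_run39 : rangeAll (cert.rowOK tab 78890) 128 4864 = true := by decide +kernel

theorem rows1_run40 : rangeAll (cert.rowOK tab 78890) 128 4992 = true := by decide +kernel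

theorem rows1_run41 : rangeAll (cert.rowOK tab 78890) 128 5120 = true := by decide +kernel

theorem rows1_run42 : rangeAll (cert.rowOK tab 78890) 128 5248 = true := by decide +kernel

theorem rows1_run43 : rangeAll (cert.rowOK tab 78890) 128 5376 = true := by decide +kernel

theorem rows1_run44 : rangeAll (cert.rowOK tab 78890) 128 5504 = true := by decide +kernel

theorem rows1_run45 : rangeAll (cert.rowOK tab 78890) 128 5632 = true := by decide +kernel

theorem rows1_run46 : rangeAll (cert.rowOK tab 78890) 128 5760 = true := by decide +kernel

theorem rows1_run47 : rangeAll (cert.rowOK tab 78890) 128 5888 = true := by decide +kernel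

theorem rows1_run48 : rangeAll (cert.rowOK tab 78890) 128 6016 = true := by decide +kernel

theorem rows1_run49 : rangeAll (cert.rowOK tab 78890) 128 6144 = true := by decide +kernel

theorem rows1_run50 : rangeAll (cert.rowOK tab 78890) 128 6272 = true := by decide +kernel

theorem rows1_run51 : rangeAll (cert.rowOK tab 78890) 128 6400 = true := by decide +kernel

theorem rows1_run52 : rangeAll (cert.rowOK tab 78890) 128 6528 = true := by decide +kernel

theorem rows1_run53 : rangeAll (cert.rowOK tab 78890) 128 6656 = true := by decide +kernel

theorem rows1_run54 : rangeAll (cert.rowOK tab 78890) 128 6784 = true := by decide +kernel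

theorem rows1_run55 : rangeAll (cert.rowOK tab 78890) 128 6912 = true := by decide +kernel

theorem rows1_run56 : rangeAll (cert.rowOK tab 78890) 128 7040 = true := by decide +kernel

theorem rows1_run57 : rangeAll (cert.rowOK tab 78890) 128 7168 = true := by decide +kernel

theorem rows1_run58 : rangeAll (cert.rowOK tab 78890) 128 7296 = true := by decide +kernel

theorem rows1_run59 : rangeAll (cert.rowOK tab 78890) 128 7424 = true := by decide +kernel

theorem rows1_run60 : rangeAll (cert.rowOK tab 78890) 128 7552 = true := by decide +kernel

theorem rows1_run61 : rangeAll (cert.rowOK tab 78890) 128 7680 = true := by decide +kernel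

theorem rows1_run62 : rangeAll (cert.rowOK tab 78890) 128 7808 = true := by decide +kernel

theorem rows1_run63 : rangeAll (cert.rowOK tab 78890) 128 7936 = true := by decide +kernel

theorem rows1_run64 : rangeAll (cert.rowOK tab 78890) 128 8064 = true := by decide +kernel

theorem rows1_run65 : rangeAll (cert.rowOK tab 78890) 128 8192 = true := by decide +kernel

theorem rows1_run66 : rangeAll (cert.rowOK tab 78890) 128 8320 = true := by decide +kernel

theorem rows1_run67 : rangeAll (cert.rowOK tab 78890) 128 8448 = true := by decide +kernel

theorem rows1_run68 : rangeAll (cert.rowOK tab 78890) 128 8576 = true := by decide +kernel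

theorem rows1_run69 : rangeAll (cert.rowOK tab 78890) 128 8704 = true := by decide +kernel

theorem rows1_run70 : rangeAll (cert.rowOK tab 78890) 128 8832 = true := by decide +kernel

theorem rows1_run71 : rangeAll (cert.rowOK tab 78890) 128 8960 = true := by decide +kernel

theorem rows1_run72 : rangeAll (cert.rowOK tab 78890) 128 9088 = true := by decide +kernel

theorem rows1_run73 : rangeAll (cert.rowOK tab 78890) 128 9216 = true := by decide +kernel

theorem rows1_run74 : rangeAll (cert.rowOK tab 78890) 128 9344 = true := by decide +kernel

theorem rows1_run75 : rangeAll (cert.rowOK tab 78890) 128 9472 = true := by decide +kernel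

theorem rows1_run76 : rangeAll (cert.rowOK tab 78890) 128 9600 = true := by decide +kernel

theorem rows1_run77 : rangeAll (cert.rowOK tab 78890) 128 9728 = true := by decide +kernel

theorem rows1_run78 : rangeAll (cert.rowOK tab 78890) 128 9856 = true := by decide +kernel

theorem rows1_run79 : rangeAll (cert.rowOK tab 78890) 128 9984 = true := by decide +kernel

theorem rows1_run80 : rangeAll (cert.rowOK tab 78890) 128 10112 = true := by decide +kernel

theorem rows1_run81 : rangeAll (cert.rowOK tab 78890) 128 10240 = true := by decide +kernel

theorem rows1_run82 : rangeAll (cert.rowOK tab 78890) 128 10368 = true := by decide +kernel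

theorem rows1_run83 : rangeAll (cert.rowOK tab 78890) 128 10496 = true := by decide +kernel

theorem rows1_run84 : rangeAll (cert.rowOK tab 78890) 2 10624 = true := by decide +kernel

theorem rows1 (h : Below (cert.rowOK tab 78890) 0) : Below (cert.rowOK tab 78890) 10626 :=
  ((((((((((((((((((((((((((((((((((((((((((((((((((((((((((((((((((((((((((((((((((((h).step (b := 128) rows1_run1 rfl).step (b := 256) rows1_run2 rfl).step (b := 384) rows1_run3 rfl).step (b := 512) rows1_run4 rfl).step (b := 640) rows1_run5 rfl).step (b := 768) rows1_run6 rfl).step (b := 896) rows1_run7 rfl).step (b := 1024) rows1_run8 rfl).step (b := 1152) rows1_run9 rfl).step (b := 1280) rows1_run10 rfl).step (b := 1408) rows1_run11 rfl).step (b := 1536) rows1_run12 rfl).step (b := 1664) rows1_run13 rfl).step (b := 1792) rows1_run14 rfl).step (b := 1920) rows1_run15 rfl).step (b := 2048) rows1_run16 rfl).step (b := 2176) rows1_run17 rfl).step (b := 2304) rows1_run18 rfl).step (b := 2432) rows1_run19 rfl).step (b := 2560) rows1_run20 rfl).step (b := 2688) rows1_run21 rfl).step (b := 2816) rows1_run22 rfl).step (b := 2944) rows1_run23 rfl).step (b :=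 3072) rows1_run24 rfl).step (b := 3200) rows1_run25 rfl).step (b := 3328) rows1_run26 rfl).step (b := 3456) rows1_run27 rfl).step (b := 3584) rows1_run28 rfl).step (b := 3712) rows1_run29 rfl).step (b := 3840) rows1_run30 rfl).step (b := 3968) rows1_run31 rfl).step (b := 4096) rows1_run32 rfl).step (b := 4224) rows1_run33 rfl).step (b := 4352) rows1_run34 rfl).step (b := 4480) rows1_run35 rfl).step (b := 4608) rows1_run36 rfl).step (b := 4736) rows1_run37 rfl).step (b := 4864) rows1_run38 rfl).step (b := 4992) rows1_run39 rfl).step (b := 5120) rows1_run40 rfl).step (b := 5248) rows1_run41 rfl).step (b := 5376) rows1_run42 rfl).step (b := 5504) rows1_run43 rfl).step (b := 5632) rows1_run44 rfl).step (b := 5760) rows1_run45 rfl).step (b := 5888) rows1_run46 rfl).step (b := 6016) rows1_run47 rfl).step (b := 6144) rows1_run48 rfl).step (b := 6272) rows1_run49 rfl).step (b := 6400) rows1_run50 rfl).step (b := 6528) rows1_run51 rfl).step (b := 6656) rows1_run52 rfl).step (b := 6784) rows1_run53 rfl).step (b := 6912) rows1_run54 rfl).step (b := 7040) rows1_run55 rfl).step (b := 7168) rows1_run56 rfl).step (b := 7296) rows1_run57 rfl).step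 (b := 7424) rows1_run58 rfl).step (b := 7552) rows1_run59 rfl).step (b := 7680) rows1_run60 rfl).step (b := 7808) rows1_run61 rfl).step (b := 7936) rows1_run62 rfl).step (b := 8064) rows1_run63 rfl).step (b := 8192) rows1_run64 rfl).step (b := 8320) rows1_run65 rfl).step (b := 8448) rows1_run66 rfl).step (b := 8576) rows1_run67 rfl).step (b := 8704) rows1_run68 rfl).step (b := 8832) rows1_run69 rfl).step (b := 8960) rows1_run70 rfl).step (b := 9088) rows1_run71 rfl).step (b := 9216) rows1_run72 rfl).step (b := 9344) rows1_run73 rfl).step (b := 9472) rows1_run74 rfl).step (b := 9600) rows1_run75 rfl).step (b := 9728) rows1_run76 rfl).step (b := 9856) rows1_run77 rfl).step (b := 9984) rows1_run78 rfl).step (b := 10112) rows1_run79 rfl).step (b := 10240) rows1_run80 rfl).step (b := 10368) rows1_run81 rfl).step (b := 10496) rows1_run82 rfl).step (b := 10624) rows1_run83 rfl).step (b := 10626) rows1_run84 rfl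

end Cfsg.Agent.Lib.J4M24Bound96.Top
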