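import Cfsg.Agent.Lib.J4M24Bound96.Top.Data

/-! Generated row checks (`Top`). -/

namespace Cfsg.Agent.Lib.J4M24Bound96.Top

open Cfsg.Agent.Lib.CosetTable

set_option maxRecDepth 10000

theorem rows2_run1 : rangeAll (cert.rowOK tab 78890) 128 10626 = true := by decide +kernel

theorem rows2_run2 : rangeAll (cert.rowOK tab 78890) 128 10754 = true := by decide +kernel

theorem rows2_run3 : rangeAll (cert.rowOK tab 78890) 128 10882 = true := by decide +kernel

theorem rows2_run4 : rangeAll (cert.rowOK tab 78890) 128 11010 = true := by decide +kernel

theorem rows2_run5 : rangeAll (cert.rowOK tab 78890) 128 11138 = true := by decide +kernel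

theorem rows2_run6 : rangeAll (cert.rowOK tab 78890) 128 11266 = true := by decide +kernel

theorem rows2_run7 : rangeAll (cert.rowOK tab 78890) 128 11394 = true := by decide +kernel

theorem rows2_run8 : rangeAll (cert.rowOK tab 78890) 128 11522 = true := by decide +kernel

theorem rows2_run9 : rangeAll (cert.rowOK tab 78890) 128 11650 = true := by decide +kernel

theorem rows2_run10 : rangeAll (cert.rowOK tab 78890) 128 11778 = true := by decide +kernel

theorem rows2_run11 : rangeAll (cert.rowOK tab 78890) 128 11906 = true := by decide +kernel

theorem rows2_run12 : rangeAll (cert.rowOK tab 78890) 128 12034 = true := by decide +kernel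

theorem rows2_run13 : rangeAll (cert.rowOK tab 78890) 128 12162 = true := by decide +kernel

theorem rows2_run14 : rangeAll (cert.rowOK tab 78890) 128 12290 = true := by decide +kernel

theorem rows2_run15 : rangeAll (cert.rowOK tab 78890) 128 12418 = true := by decide +kernel

theorem rows2_run16 : rangeAll (cert.rowOK tab 78890) 128 12546 = true := by decide +kernel

theorem rows2_run17 : rangeAll (cert.rowOK tab 78890) 128 12674 = true := by decide +kernel

theorem rows2_run18 : rangeAll (cert.rowOK tab 78890) 128 12802 = true := by decide +kernel

theorem rows2_run19 : rangeAll (cert.rowOK tab 78890) 128 12930 = true := by decide +kernel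

theorem rows2_run20 : rangeAll (cert.rowOK tab 78890) 128 13058 = true := by decide +kernel

theorem rows2_run21 : rangeAll (cert.rowOK tab 78890) 128 13186 = true := by decide +kernel

theorem rows2_run22 : rangeAll (cert.rowOK tab 78890) 128 13314 = true := by decide +kernel

theorem rows2_run23 : rangeAll (cert.rowOK tab 78890) 128 13442 = true := by decide +kernel

theorem rows2_run24 : rangeAll (cert.rowOK tab 78890) 128 13570 = true := by decide +kernel

theorem rows2_run25 : rangeAll (cert.rowOK tab 78890) 128 13698 = true := by decide +kernel

theorem rows2_run26 : rangeAll (cert.rowOK tab 78890) 128 13826 = true := by decide +kernel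

theorem rows2_run27 : rangeAll (cert.rowOK tab 78890) 128 13954 = true := by decide +kernel

theorem rows2_run28 : rangeAll (cert.rowOK tab 78890) 128 14082 = true := by decide +kernel

theorem rows2_run29 : rangeAll (cert.rowOK tab 78890) 128 14210 = true := by decide +kernel

theorem rows2_run30 : rangeAll (cert.rowOK tab 78890) 128 14338 = true := by decide +kernel

theorem rows2_run31 : rangeAll (cert.rowOK tab 78890) 128 14466 = true := by decide +kernel

theorem rows2_run32 : rangeAll (cert.rowOK tab 78890) 128 14594 = true := by decide +kernel

theorem rows2_run33 : rangeAll (cert.rowOK tab 78890) 128 14722 = true := by decide +kernel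

theorem rows2_run34 : rangeAll (cert.rowOK tab 78890) 128 14850 = true := by decide +kernel

theorem rows2_run35 : rangeAll (cert.rowOK tab 78890) 128 14978 = true := by decide +kernel

theorem rows2_run36 : rangeAll (cert.rowOK tab 78890) 128 15106 = true := by decide +kernel

theorem rows2_run37 : rangeAll (cert.rowOK tab 78890) 128 15234 = true := by decide +kernel

theorem rows2_run38 : rangeAll (cert.rowOK tab 78890) 128 15362 = true := by decide +kernel

theorem rows2_run39 : rangeAll (cert.rowOK tab 78890) 128 15490 = true := by decide +kernel

theorem rows2_run40 : rangeAll (cert.rowOK tab 78890) 128 15618 = true := by decide +kernel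

theorem rows2_run41 : rangeAll (cert.rowOK tab 78890) 128 15746 = true := by decide +kernel

theorem rows2_run42 : rangeAll (cert.rowOK tab 78890) 128 15874 = true := by decide +kernel

theorem rows2_run43 : rangeAll (cert.rowOK tab 78890) 128 16002 = true := by decide +kernel

theorem rows2_run44 : rangeAll (cert.rowOK tab 78890) 128 16130 = true := by decide +kernel

theorem rows2_run45 : rangeAll (cert.rowOK tab 78890) 128 16258 = true := by decide +kernel

theorem rows2_run46 : rangeAll (cert.rowOK tab 78890) 128 16386 = true := by decide +kernel

theorem rows2_run47 : rangeAll (cert.rowOK tab 78890) 128 16514 = true := by decide +kernel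

theorem rows2_run48 : rangeAll (cert.rowOK tab 78890) 128 16642 = true := by decide +kernel

theorem rows2_run49 : rangeAll (cert.rowOK tab 78890) 128 16770 = true := by decide +kernel

theorem rows2_run50 : rangeAll (cert.rowOK tab 78890) 128 16898 = true := by decide +kernel

theorem rows2_run51 : rangeAll (cert.rowOK tab 78890) 128 17026 = true := by decide +kernel

theorem rows2_run52 : rangeAll (cert.rowOK tab 78890) 128 17154 = true := by decide +kernel

theorem rows2_run53 : rangeAll (cert.rowOK tab 78890) 128 17282 = true := by decide +kernel

theorem rows2_run54 : rangeAll (cert.rowOK tab 78890) 128 17410 = true := by decide +kernel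

theorem rows2_run55 : rangeAll (cert.rowOK tab 78890) 128 17538 = true := by decide +kernel

theorem rows2_run56 : rangeAll (cert.rowOK tab 78890) 128 17666 = true := by decide +kernel

theorem rows2_run57 : rangeAll (cert.rowOK tab 78890) 128 17794 = true := by decide +kernel

theorem rows2_run58 : rangeAll (cert.rowOK tab 78890) 128 17922 = true := by decide +kernel

theorem rows2_run59 : rangeAll (cert.rowOK tab 78890) 128 18050 = true := by decide +kernel

theorem rows2_run60 : rangeAll (cert.rowOK tab 78890) 128 18178 = true := by decide +kernel

theorem rows2_run61 : rangeAll (cert.rowOK tab 78890) 128 18306 = true := by decide +kernel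

theorem rows2_run62 : rangeAll (cert.rowOK tab 78890) 128 18434 = true := by decide +kernel

theorem rows2_run63 : rangeAll (cert.rowOK tab 78890) 128 18562 = true := by decide +kernel

theorem rows2_run64 : rangeAll (cert.rowOK tab 78890) 128 18690 = true := by decide +kernel

theorem rows2_run65 : rangeAll (cert.rowOK tab 78890) 128 18818 = true := by decide +kernel

theorem rows2_run66 : rangeAll (cert.rowOK tab 78890) 128 18946 = true := by decide +kernel

theorem rows2_run67 : rangeAll (cert.rowOK tab 78890) 128 19074 = true := by decide +kernel

theorem rows2_run68 : rangeAll (cert.rowOK tab 78890) 128 19202 = true := by decide +kernel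

theorem rows2_run69 : rangeAll (cert.rowOK tab 78890) 128 19330 = true := by decide +kernel

theorem rows2_run70 : rangeAll (cert.rowOK tab 78890) 128 19458 = true := by decide +kernel

theorem rows2_run71 : rangeAll (cert.rowOK tab 78890) 128 19586 = true := by decide +kernel

theorem rows2_run72 : rangeAll (cert.rowOK tab 78890) 128 19714 = true := by decide +kernel

theorem rows2_run73 : rangeAll (cert.rowOK tab 78890) 128 19842 = true := by decide +kernel

theorem rows2_run74 : rangeAll (cert.rowOK tab 78890) 128 19970 = true := by decide +kernel

theorem rows2_run75 : rangeAll (cert.rowOK tab 78890) 128 20098 = true := by decide +kernel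

theorem rows2_run76 : rangeAll (cert.rowOK tab 78890) 128 20226 = true := by decide +kernel

theorem rows2_run77 : rangeAll (cert.rowOK tab 78890) 128 20354 = true := by decide +kernel

theorem rows2_run78 : rangeAll (cert.rowOK tab 78890) 128 20482 = true := by decide +kernel

theorem rows2_run79 : rangeAll (cert.rowOK tab 78890) 128 20610 = true := by decide +kernel

theorem rows2_run80 : rangeAll (cert.rowOK tab 78890) 128 20738 = true := by decide +kernel

theorem rows2_run81 : rangeAll (cert.rowOK tab 78890) 128 20866 = true := by decide +kernel

theorem rows2_run82 : rangeAll (cert.rowOK tab 78890) 128 20994 = true := by decide +kernel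

theorem rows2_run83 : rangeAll (cert.rowOK tab 78890) 128 21122 = true := by decide +kernel

theorem rows2_run84 : rangeAll (cert.rowOK tab 78890) 2 21250 = true := by decide +kernel

theorem rows2 (h : Below (cert.rowOK tab 78890) 10626) : Below (cert.rowOK tab 78890) 21252 :=
  ((((((((((((((((((((((((((((((((((((((((((((((((((((((((((((((((((((((((((((((((((((h).step (b := 10754) rows2_run1 rfl).step (b := 10882) rows2_run2 rfl).step (b := 11010) rows2_run3 rfl).step (b := 11138) rows2_run4 rfl).step (b := 11266) rows2_run5 rfl).step (b := 11394) rows2_run6 rfl).step (b := 11522) rows2_run7 rfl).step (b := 11650) rows2_run8 rfl).step (b := 11778) rows2_run9 rfl).step (b := 11906) rows2_run10 rfl).step (b := 12034) rows2_run11 rfl).step (b := 12162) rows2_run12 rfl).step (b := 12290) rows2_run13 rfl).step (b := 12418) rows2_run14 rfl).step (b := 12546) rows2_run15 rfl).step (b := 12674) rows2_run16 rfl).step (b := 12802) rows2_run17 rfl).step (b := 12930) rows2_run18 rfl).step (b := 13058) rows2_run19 rfl).step (b := 13186) rows2_run20 rfl).step (b := 13314) rows2_run21 rfl).step (b := 13442) rows2_run22 rfl).step (b := 13570) rows2_run23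 rfl).step (b := 13698) rows2_run24 rfl).step (b := 13826) rows2_run25 rfl).step (b := 13954) rows2_run26 rfl).step (b := 14082) rows2_run27 rfl).step (b := 14210) rows2_run28 rfl).step (b := 14338) rows2_run29 rfl).step (b := 14466) rows2_run30 rfl).step (b := 14594) rows2_run31 rfl).step (b := 14722) rows2_run32 rfl).step (b := 14850) rows2_run33 rfl).step (b := 14978) rows2_run34 rfl).step (b := 15106) rows2_run35 rfl).step (b := 15234) rows2_run36 rfl).step (b := 15362) rows2_run37 rfl).step (b := 15490) rows2_run38 rfl).step (b := 15618) rows2_run39 rfl).step (b := 15746) rows2_run40 rfl).step (b := 15874) rows2_run41 rfl).step (b := 16002) rows2_run42 rfl).step (b := 16130) rows2_run43 rfl).step (b := 16258) rows2_run44 rfl).step (b := 16386) rows2_run45 rfl).step (b := 16514) rows2_run46 rfl).step (b := 16642) rows2_run47 rfl).step (b := 16770) rows2_run48 rfl).step (b := 16898) rows2_run49 rfl).step (b := 17026) rows2_run50 rfl).step (b := 17154) rows2_run51 rfl).step (b := 17282) rows2_run52 rfl).step (b := 17410) rows2_run53 rfl).step (b := 17538) rows2_run54 rfl).step (b := 17666) rows2_run55 rfl).step (b := 17794) rows2_run56 rfl).step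 (b := 17922) rows2_run57 rfl).step (b := 18050) rows2_run58 rfl).step (b := 18178) rows2_run59 rfl).step (b := 18306) rows2_run60 rfl).step (b := 18434) rows2_run61 rfl).step (b := 18562) rows2_run62 rfl).step (b := 18690) rows2_run63 rfl).step (b := 18818) rows2_run64 rfl).step (b := 18946) rows2_run65 rfl).step (b := 19074) rows2_run66 rfl).step (b := 19202) rows2_run67 rfl).step (b := 19330) rows2_run68 rfl).step (b := 19458) rows2_run69 rfl).step (b := 19586) rows2_run70 rfl).step (b := 19714) rows2_run71 rfl).step (b := 19842) rows2_run72 rfl).step (b := 19970) rows2_run73 rfl).step (b := 20098) rows2_run74 rfl).step (b := 20226) rows2_run75 rfl).step (b := 20354) rows2_run76 rfl).step (b := 20482) rows2_run77 rfl).step (b := 20610) rows2_run78 rfl).step (b := 20738) rows2_run79 rfl).step (b := 20866) rows2_run80 rfl).step (b := 20994) rows2_run81 rfl).step (b := 21122) rows2_run82 rfl).step (b := 21250) rows2_run83 rfl).step (b := 21252) rows2_run84 rfl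

end Cfsg.Agent.Lib.J4M24Bound96.Top
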