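import Cfsg.Agent.Lib.J4M24Bound96.Top.Data

/-! Generated row checks (`Top`). -/

namespace Cfsg.Agent.Lib.J4M24Bound96.Top

open Cfsg.Agent.Lib.CosetTable

set_option maxRecDepth 10000

theorem rows3_run1 : rangeAll (cert.rowOK tab 78890) 128 21252 = true := by decide +kernel

theorem rows3_run2 : rangeAll (cert.rowOK tab 78890) 128 21380 = true := by decide +kernel

theorem rows3_run3 : rangeAll (cert.rowOK tab 78890) 128 21508 = true := by decide +kernel

theorem rows3_run4 : rangeAll (cert.rowOK tab 78890) 128 21636 = true := by decide +kernel

theorem rows3_run5 : rangeAll (cert.rowOK tab 78890) 128 21764 = true := by decide +kernel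

theorem rows3_run6 : rangeAll (cert.rowOK tab 78890) 128 21892 = true := by decide +kernel

theorem rows3_run7 : rangeAll (cert.rowOK tab 78890) 128 22020 = true := by decide +kernel

theorem rows3_run8 : rangeAll (cert.rowOK tab 78890) 128 22148 = true := by decide +kernel

theorem rows3_run9 : rangeAll (cert.rowOK tab 78890) 128 22276 = true := by decide +kernel

theorem rows3_run10 : rangeAll (cert.rowOK tab 78890) 128 22404 = true := by decide +kernel

theorem rows3_run11 : rangeAll (cert.rowOK tab 78890) 128 22532 = true := by decide +kernel

theorem rows3_run12 : rangeAll (cert.rowOK tab 78890) 128 22660 = true := by decide +kernel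

theorem rows3_run13 : rangeAll (cert.rowOK tab 78890) 128 22788 = true := by decide +kernel

theorem rows3_run14 : rangeAll (cert.rowOK tab 78890) 128 22916 = true := by decide +kernel

theorem rows3_run15 : rangeAll (cert.rowOK tab 78890) 128 23044 = true := by decide +kernel

theorem rows3_run16 : rangeAll (cert.rowOK tab 78890) 128 23172 = true := by decide +kernel

theorem rows3_run17 : rangeAll (cert.rowOK tab 78890) 128 23300 = true := by decide +kernel

theorem rows3_run18 : rangeAll (cert.rowOK tab 78890) 128 23428 = true := by decide +kernel

theorem rows3_run19 : rangeAll (cert.rowOK tab 78890) 128 23556 = true := by decide +kernel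

theorem rows3_run20 : rangeAll (cert.rowOK tab 78890) 128 23684 = true := by decide +kernel

theorem rows3_run21 : rangeAll (cert.rowOK tab 78890) 128 23812 = true := by decide +kernel

theorem rows3_run22 : rangeAll (cert.rowOK tab 78890) 128 23940 = true := by decide +kernel

theorem rows3_run23 : rangeAll (cert.rowOK tab 78890) 128 24068 = true := by decide +kernel

theorem rows3_run24 : rangeAll (cert.rowOK tab 78890) 128 24196 = true := by decide +kernel

theorem rows3_run25 : rangeAll (cert.rowOK tab 78890) 128 24324 = true := by decide +kernel

theorem rows3_run26 : rangeAll (cert.rowOK tab 78890) 128 24452 = true := by decide +kernel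

theorem rows3_run27 : rangeAll (cert.rowOK tab 78890) 128 24580 = true := by decide +kernel

theorem rows3_run28 : rangeAll (cert.rowOK tab 78890) 128 24708 = true := by decide +kernel

theorem rows3_run29 : rangeAll (cert.rowOK tab 78890) 128 24836 = true := by decide +kernel

theorem rows3_run30 : rangeAll (cert.rowOK tab 78890) 128 24964 = true := by decide +kernel

theorem rows3_run31 : rangeAll (cert.rowOK tab 78890) 128 25092 = true := by decide +kernel

theorem rows3_run32 : rangeAll (cert.rowOK tab 78890) 128 25220 = true := by decide +kernel

theorem rows3_run33 : rangeAll (cert.rowOK tab 78890) 128 25348 = true := by decide +kernel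

theorem rows3_run34 : rangeAll (cert.rowOK tab 78890) 128 25476 = true := by decide +kernel

theorem rows3_run35 : rangeAll (cert.rowOK tab 78890) 128 25604 = true := by decide +kernel

theorem rows3_run36 : rangeAll (cert.rowOK tab 78890) 128 25732 = true := by decide +kernel

theorem rows3_run37 : rangeAll (cert.rowOK tab 78890) 128 25860 = true := by decide +kernel

theorem rows3_run38 : rangeAll (cert.rowOK tab 78890) 128 25988 = true := by decide +kernel

theorem rows3_run39 : rangeAll (cert.rowOK tab 78890) 128 26116 = true := by decide +kernel

theorem rows3_run40 : rangeAll (cert.rowOK tab 78890) 128 26244 = true := by decide +kernel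

theorem rows3_run41 : rangeAll (cert.rowOK tab 78890) 128 26372 = true := by decide +kernel

theorem rows3_run42 : rangeAll (cert.rowOK tab 78890) 128 26500 = true := by decide +kernel

theorem rows3_run43 : rangeAll (cert.rowOK tab 78890) 128 26628 = true := by decide +kernel

theorem rows3_run44 : rangeAll (cert.rowOK tab 78890) 128 26756 = true := by decide +kernel

theorem rows3_run45 : rangeAll (cert.rowOK tab 78890) 128 26884 = true := by decide +kernel

theorem rows3_run46 : rangeAll (cert.rowOK tab 78890) 128 27012 = true := by decide +kernel

theorem rows3_run47 : rangeAll (cert.rowOK tab 78890) 128 27140 = true := by decide +kernel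

theorem rows3_run48 : rangeAll (cert.rowOK tab 78890) 128 27268 = true := by decide +kernel

theorem rows3_run49 : rangeAll (cert.rowOK tab 78890) 128 27396 = true := by decide +kernel

theorem rows3_run50 : rangeAll (cert.rowOK tab 78890) 128 27524 = true := by decide +kernel

theorem rows3_run51 : rangeAll (cert.rowOK tab 78890) 128 27652 = true := by decide +kernel

theorem rows3_run52 : rangeAll (cert.rowOK tab 78890) 128 27780 = true := by decide +kernel

theorem rows3_run53 : rangeAll (cert.rowOK tab 78890) 128 27908 = true := by decide +kernel

theorem rows3_run54 : rangeAll (cert.rowOK tab 78890) 128 28036 = true := by decide +kernel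

theorem rows3_run55 : rangeAll (cert.rowOK tab 78890) 128 28164 = true := by decide +kernel

theorem rows3_run56 : rangeAll (cert.rowOK tab 78890) 128 28292 = true := by decide +kernel

theorem rows3_run57 : rangeAll (cert.rowOK tab 78890) 128 28420 = true := by decide +kernel

theorem rows3_run58 : rangeAll (cert.rowOK tab 78890) 128 28548 = true := by decide +kernel

theorem rows3_run59 : rangeAll (cert.rowOK tab 78890) 128 28676 = true := by decide +kernel

theorem rows3_run60 : rangeAll (cert.rowOK tab 78890) 128 28804 = true := by decide +kernel

theorem rows3_run61 : rangeAll (cert.rowOK tab 78890) 128 28932 = true := by decide +kernel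

theorem rows3_run62 : rangeAll (cert.rowOK tab 78890) 128 29060 = true := by decide +kernel

theorem rows3_run63 : rangeAll (cert.rowOK tab 78890) 128 29188 = true := by decide +kernel

theorem rows3_run64 : rangeAll (cert.rowOK tab 78890) 128 29316 = true := by decide +kernel

theorem rows3_run65 : rangeAll (cert.rowOK tab 78890) 128 29444 = true := by decide +kernel

theorem rows3_run66 : rangeAll (cert.rowOK tab 78890) 128 29572 = true := by decide +kernel

theorem rows3_run67 : rangeAll (cert.rowOK tab 78890) 128 29700 = true := by decide +kernel

theorem rows3_run68 : rangeAll (cert.rowOK tab 78890) 128 29828 = true := by decide +kernel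

theorem rows3_run69 : rangeAll (cert.rowOK tab 78890) 128 29956 = true := by decide +kernel

theorem rows3_run70 : rangeAll (cert.rowOK tab 78890) 128 30084 = true := by decide +kernel

theorem rows3_run71 : rangeAll (cert.rowOK tab 78890) 128 30212 = true := by decide +kernel

theorem rows3_run72 : rangeAll (cert.rowOK tab 78890) 128 30340 = true := by decide +kernel

theorem rows3_run73 : rangeAll (cert.rowOK tab 78890) 128 30468 = true := by decide +kernel

theorem rows3_run74 : rangeAll (cert.rowOK tab 78890) 128 30596 = true := by decide +kernel

theorem rows3_run75 : rangeAll (cert.rowOK tab 78890) 128 30724 = true := by decide +kernel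

theorem rows3_run76 : rangeAll (cert.rowOK tab 78890) 128 30852 = true := by decide +kernel

theorem rows3_run77 : rangeAll (cert.rowOK tab 78890) 128 30980 = true := by decide +kernel

theorem rows3_run78 : rangeAll (cert.rowOK tab 78890) 128 31108 = true := by decide +kernel

theorem rows3_run79 : rangeAll (cert.rowOK tab 78890) 128 31236 = true := by decide +kernel

theorem rows3_run80 : rangeAll (cert.rowOK tab 78890) 128 31364 = true := by decide +kernel

theorem rows3_run81 : rangeAll (cert.rowOK tab 78890) 128 31492 = true := by decide +kernel

theorem rows3_run82 : rangeAll (cert.rowOK tab 78890) 128 31620 = true := by decide +kernel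

theorem rows3_run83 : rangeAll (cert.rowOK tab 78890) 128 31748 = true := by decide +kernel

theorem rows3_run84 : rangeAll (cert.rowOK tab 78890) 2 31876 = true := by decide +kernel

theorem rows3 (h : Below (cert.rowOK tab 78890) 21252) : Below (cert.rowOK tab 78890) 31878 :=
  ((((((((((((((((((((((((((((((((((((((((((((((((((((((((((((((((((((((((((((((((((((h).step (b := 21380) rows3_run1 rfl).step (b := 21508) rows3_run2 rfl).step (b := 21636) rows3_run3 rfl).step (b := 21764) rows3_run4 rfl).step (b := 21892) rows3_run5 rfl).step (b := 22020) rows3_run6 rfl).step (b := 22148) rows3_run7 rfl).step (b := 22276) rows3_run8 rfl).step (b := 22404) rows3_run9 rfl).step (b := 22532) rows3_run10 rfl).step (b := 22660) rows3_run11 rfl).step (b := 22788) rows3_run12 rfl).step (b := 22916) rows3_run13 rfl).step (b := 23044) rows3_run14 rfl).step (b := 23172) rows3_run15 rfl).step (b := 23300) rows3_run16 rfl).step (b := 23428) rows3_run17 rfl).step (b := 23556) rows3_run18 rfl).step (b := 23684) rows3_run19 rfl).step (b := 23812) rows3_run20 rfl).step (b := 23940) rows3_run21 rfl).step (b := 24068) rows3_run22 rfl).step (b := 24196) rows3_run23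 rfl).step (b := 24324) rows3_run24 rfl).step (b := 24452) rows3_run25 rfl).step (b := 24580) rows3_run26 rfl).step (b := 24708) rows3_run27 rfl).step (b := 24836) rows3_run28 rfl).step (b := 24964) rows3_run29 rfl).step (b := 25092) rows3_run30 rfl).step (b := 25220) rows3_run31 rfl).step (b := 25348) rows3_run32 rfl).step (b := 25476) rows3_run33 rfl).step (b := 25604) rows3_run34 rfl).step (b := 25732) rows3_run35 rfl).step (b := 25860) rows3_run36 rfl).step (b := 25988) rows3_run37 rfl).step (b := 26116) rows3_run38 rfl).step (b := 26244) rows3_run39 rfl).step (b := 26372) rows3_run40 rfl).step (b := 26500) rows3_run41 rfl).step (b := 26628) rows3_run42 rfl).step (b := 26756) rows3_run43 rfl).step (b := 26884) rows3_run44 rfl).step (b := 27012) rows3_run45 rfl).step (b := 27140) rows3_run46 rfl).step (b := 27268) rows3_run47 rfl).step (b := 27396) rows3_run48 rfl).step (b := 27524) rows3_run49 rfl).step (b := 27652) rows3_run50 rfl).step (b := 27780) rows3_run51 rfl).step (b := 27908) rows3_run52 rfl).step (b := 28036) rows3_run53 rfl).step (b := 28164) rows3_run54 rfl).step (b := 28292) rows3_run55 rfl).step (b := 28420) rows3_run56 rfl).step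 (b := 28548) rows3_run57 rfl).step (b := 28676) rows3_run58 rfl).step (b := 28804) rows3_run59 rfl).step (b := 28932) rows3_run60 rfl).step (b := 29060) rows3_run61 rfl).step (b := 29188) rows3_run62 rfl).step (b := 29316) rows3_run63 rfl).step (b := 29444) rows3_run64 rfl).step (b := 29572) rows3_run65 rfl).step (b := 29700) rows3_run66 rfl).step (b := 29828) rows3_run67 rfl).step (b := 29956) rows3_run68 rfl).step (b := 30084) rows3_run69 rfl).step (b := 30212) rows3_run70 rfl).step (b := 30340) rows3_run71 rfl).step (b := 30468) rows3_run72 rfl).step (b := 30596) rows3_run73 rfl).step (b := 30724) rows3_run74 rfl).step (b := 30852) rows3_run75 rfl).step (b := 30980) rows3_run76 rfl).step (b := 31108) rows3_run77 rfl).step (b := 31236) rows3_run78 rfl).step (b := 31364) rows3_run79 rfl).step (b := 31492) rows3_run80 rfl).step (b := 31620) rows3_run81 rfl).step (b := 31748) rows3_run82 rfl).step (b := 31876) rows3_run83 rfl).step (b := 31878) rows3_run84 rfl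

end Cfsg.Agent.Lib.J4M24Bound96.Top
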