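import Cfsg.Agent.Lib.J4M24Bound96.Top.Data

/-! Generated row checks (`Top`). -/

namespace Cfsg.Agent.Lib.J4M24Bound96.Top

open Cfsg.Agent.Lib.CosetTable

set_option maxRecDepth 10000

theorem rows4_run1 : rangeAll (cert.rowOK tab 78890) 128 31878 = true := by decide +kernel

theorem rows4_run2 : rangeAll (cert.rowOK tab 78890) 128 32006 = true := by decide +kernel

theorem rows4_run3 : rangeAll (cert.rowOK tab 78890) 128 32134 = true := by decide +kernel

theorem rows4_run4 : rangeAll (cert.rowOK tab 78890) 128 32262 = true := by decide +kernel

theorem rows4_run5 : rangeAll (cert.rowOK tab 78890) 128 32390 = true := by decide +kernel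

theorem rows4_run6 : rangeAll (cert.rowOK tab 78890) 128 32518 = true := by decide +kernel

theorem rows4_run7 : rangeAll (cert.rowOK tab 78890) 128 32646 = true := by decide +kernel

theorem rows4_run8 : rangeAll (cert.rowOK tab 78890) 128 32774 = true := by decide +kernel

theorem rows4_run9 : rangeAll (cert.rowOK tab 78890) 128 32902 = true := by decide +kernel

theorem rows4_run10 : rangeAll (cert.rowOK tab 78890) 128 33030 = true := by decide +kernel

theorem rows4_run11 : rangeAll (cert.rowOK tab 78890) 128 33158 = true := by decide +kernel

theorem rows4_run12 : rangeAll (cert.rowOK tab 78890) 128 33286 = true := by decide +kernel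

theorem rows4_run13 : rangeAll (cert.rowOK tab 78890) 128 33414 = true := by decide +kernel

theorem rows4_run14 : rangeAll (cert.rowOK tab 78890) 128 33542 = true := by decide +kernel

theorem rows4_run15 : rangeAll (cert.rowOK tab 78890) 128 33670 = true := by decide +kernel

theorem rows4_run16 : rangeAll (cert.rowOK tab 78890) 128 33798 = true := by decide +kernel

theorem rows4_run17 : rangeAll (cert.rowOK tab 78890) 128 33926 = true := by decide +kernel

theorem rows4_run18 : rangeAll (cert.rowOK tab 78890) 128 34054 = true := by decide +kernel

theorem rows4_run19 : rangeAll (cert.rowOK tab 78890) 128 34182 = true := by decide +kernel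

theorem rows4_run20 : rangeAll (cert.rowOK tab 78890) 128 34310 = true := by decide +kernel

theorem rows4_run21 : rangeAll (cert.rowOK tab 78890) 128 34438 = true := by decide +kernel

theorem rows4_run22 : rangeAll (cert.rowOK tab 78890) 128 34566 = true := by decide +kernel

theorem rows4_run23 : rangeAll (cert.rowOK tab 78890) 128 34694 = true := by decide +kernel

theorem rows4_run24 : rangeAll (cert.rowOK tab 78890) 128 34822 = true := by decide +kernel

theorem rows4_run25 : rangeAll (cert.rowOK tab 78890) 128 34950 = true := by decide +kernel

theorem rows4_run26 : rangeAll (cert.rowOK tab 78890) 128 35078 = true := by decide +kernel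

theorem rows4_run27 : rangeAll (cert.rowOK tab 78890) 128 35206 = true := by decide +kernel

theorem rows4_run28 : rangeAll (cert.rowOK tab 78890) 128 35334 = true := by decide +kernel

theorem rows4_run29 : rangeAll (cert.rowOK tab 78890) 128 35462 = true := by decide +kernel

theorem rows4_run30 : rangeAll (cert.rowOK tab 78890) 128 35590 = true := by decide +kernel

theorem rows4_run31 : rangeAll (cert.rowOK tab 78890) 128 35718 = true := by decide +kernel

theorem rows4_run32 : rangeAll (cert.rowOK tab 78890) 128 35846 = true := by decide +kernel

theorem rows4_run33 : rangeAll (cert.rowOK tab 78890) 128 35974 = true := by decide +kernel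

theorem rows4_run34 : rangeAll (cert.rowOK tab 78890) 128 36102 = true := by decide +kernel

theorem rows4_run35 : rangeAll (cert.rowOK tab 78890) 128 36230 = true := by decide +kernel

theorem rows4_run36 : rangeAll (cert.rowOK tab 78890) 128 36358 = true := by decide +kernel

theorem rows4_run37 : rangeAll (cert.rowOK tab 78890) 128 36486 = true := by decide +kernel

theorem rows4_run38 : rangeAll (cert.rowOK tab 78890) 128 36614 = true := by decide +kernel

theorem rows4_run39 : rangeAll (cert.rowOK tab 78890) 128 36742 = true := by decide +kernel

theorem rows4_run40 : rangeAll (cert.rowOK tab 78890) 128 36870 = true := by decide +kernel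

theorem rows4_run41 : rangeAll (cert.rowOK tab 78890) 128 36998 = true := by decide +kernel

theorem rows4_run42 : rangeAll (cert.rowOK tab 78890) 128 37126 = true := by decide +kernel

theorem rows4_run43 : rangeAll (cert.rowOK tab 78890) 128 37254 = true := by decide +kernel

theorem rows4_run44 : rangeAll (cert.rowOK tab 78890) 128 37382 = true := by decide +kernel

theorem rows4_run45 : rangeAll (cert.rowOK tab 78890) 128 37510 = true := by decide +kernel

theorem rows4_run46 : rangeAll (cert.rowOK tab 78890) 128 37638 = true := by decide +kernel

theorem rows4_run47 : rangeAll (cert.rowOK tab 78890) 128 37766 = true := by decide +kernel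

theorem rows4_run48 : rangeAll (cert.rowOK tab 78890) 128 37894 = true := by decide +kernel

theorem rows4_run49 : rangeAll (cert.rowOK tab 78890) 128 38022 = true := by decide +kernel

theorem rows4_run50 : rangeAll (cert.rowOK tab 78890) 128 38150 = true := by decide +kernel

theorem rows4_run51 : rangeAll (cert.rowOK tab 78890) 128 38278 = true := by decide +kernel

theorem rows4_run52 : rangeAll (cert.rowOK tab 78890) 128 38406 = true := by decide +kernel

theorem rows4_run53 : rangeAll (cert.rowOK tab 78890) 128 38534 = true := by decide +kernel

theorem rows4_run54 : rangeAll (cert.rowOK tab 78890) 128 38662 = true := by decide +kernel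

theorem rows4_run55 : rangeAll (cert.rowOK tab 78890) 128 38790 = true := by decide +kernel

theorem rows4_run56 : rangeAll (cert.rowOK tab 78890) 128 38918 = true := by decide +kernel

theorem rows4_run57 : rangeAll (cert.rowOK tab 78890) 128 39046 = true := by decide +kernel

theorem rows4_run58 : rangeAll (cert.rowOK tab 78890) 128 39174 = true := by decide +kernel

theorem rows4_run59 : rangeAll (cert.rowOK tab 78890) 128 39302 = true := by decide +kernel

theorem rows4_run60 : rangeAll (cert.rowOK tab 78890) 128 39430 = true := by decide +kernel

theorem rows4_run61 : rangeAll (cert.rowOK tab 78890) 128 39558 = true := by decide +kernel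

theorem rows4_run62 : rangeAll (cert.rowOK tab 78890) 128 39686 = true := by decide +kernel

theorem rows4_run63 : rangeAll (cert.rowOK tab 78890) 128 39814 = true := by decide +kernel

theorem rows4_run64 : rangeAll (cert.rowOK tab 78890) 128 39942 = true := by decide +kernel

theorem rows4_run65 : rangeAll (cert.rowOK tab 78890) 128 40070 = true := by decide +kernel

theorem rows4_run66 : rangeAll (cert.rowOK tab 78890) 128 40198 = true := by decide +kernel

theorem rows4_run67 : rangeAll (cert.rowOK tab 78890) 128 40326 = true := by decide +kernel

theorem rows4_run68 : rangeAll (cert.rowOK tab 78890) 128 40454 = true := by decide +kernel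

theorem rows4_run69 : rangeAll (cert.rowOK tab 78890) 128 40582 = true := by decide +kernel

theorem rows4_run70 : rangeAll (cert.rowOK tab 78890) 128 40710 = true := by decide +kernel

theorem rows4_run71 : rangeAll (cert.rowOK tab 78890) 128 40838 = true := by decide +kernel

theorem rows4_run72 : rangeAll (cert.rowOK tab 78890) 128 40966 = true := by decide +kernel

theorem rows4_run73 : rangeAll (cert.rowOK tab 78890) 128 41094 = true := by decide +kernel

theorem rows4_run74 : rangeAll (cert.rowOK tab 78890) 128 41222 = true := by decide +kernel

theorem rows4_run75 : rangeAll (cert.rowOK tab 78890) 128 41350 = true := by decide +kernel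

theorem rows4_run76 : rangeAll (cert.rowOK tab 78890) 128 41478 = true := by decide +kernel

theorem rows4_run77 : rangeAll (cert.rowOK tab 78890) 128 41606 = true := by decide +kernel

theorem rows4_run78 : rangeAll (cert.rowOK tab 78890) 128 41734 = true := by decide +kernel

theorem rows4_run79 : rangeAll (cert.rowOK tab 78890) 128 41862 = true := by decide +kernel

theorem rows4_run80 : rangeAll (cert.rowOK tab 78890) 128 41990 = true := by decide +kernel

theorem rows4_run81 : rangeAll (cert.rowOK tab 78890) 128 42118 = true := by decide +kernel

theorem rows4_run82 : rangeAll (cert.rowOK tab 78890) 128 42246 = true := by decide +kernel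

theorem rows4_run83 : rangeAll (cert.rowOK tab 78890) 128 42374 = true := by decide +kernel

theorem rows4_run84 : rangeAll (cert.rowOK tab 78890) 2 42502 = true := by decide +kernel

theorem rows4 (h : Below (cert.rowOK tab 78890) 31878) : Below (cert.rowOK tab 78890) 42504 :=
  ((((((((((((((((((((((((((((((((((((((((((((((((((((((((((((((((((((((((((((((((((((h).step (b := 32006) rows4_run1 rfl).step (b := 32134) rows4_run2 rfl).step (b := 32262) rows4_run3 rfl).step (b := 32390) rows4_run4 rfl).step (b := 32518) rows4_run5 rfl).step (b := 32646) rows4_run6 rfl).step (b := 32774) rows4_run7 rfl).step (b := 32902) rows4_run8 rfl).step (b := 33030) rows4_run9 rfl).step (b := 33158) rows4_run10 rfl).step (b := 33286) rows4_run11 rfl).step (b := 33414) rows4_run12 rfl).step (b := 33542) rows4_run13 rfl).step (b := 33670) rows4_run14 rfl).step (b := 33798) rows4_run15 rfl).step (b := 33926) rows4_run16 rfl).step (b := 34054) rows4_run17 rfl).step (b := 34182) rows4_run18 rfl).step (b := 34310) rows4_run19 rfl).step (b := 34438) rows4_run20 rfl).step (b := 34566) rows4_run21 rfl).step (b := 34694) rows4_run22 rfl).step (b := 34822) rows4_run23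 rfl).step (b := 34950) rows4_run24 rfl).step (b := 35078) rows4_run25 rfl).step (b := 35206) rows4_run26 rfl).step (b := 35334) rows4_run27 rfl).step (b := 35462) rows4_run28 rfl).step (b := 35590) rows4_run29 rfl).step (b := 35718) rows4_run30 rfl).step (b := 35846) rows4_run31 rfl).step (b := 35974) rows4_run32 rfl).step (b := 36102) rows4_run33 rfl).step (b := 36230) rows4_run34 rfl).step (b := 36358) rows4_run35 rfl).step (b := 36486) rows4_run36 rfl).step (b := 36614) rows4_run37 rfl).step (b := 36742) rows4_run38 rfl).step (b := 36870) rows4_run39 rfl).step (b := 36998) rows4_run40 rfl).step (b := 37126) rows4_run41 rfl).step (b := 37254) rows4_run42 rfl).step (b := 37382) rows4_run43 rfl).step (b := 37510) rows4_run44 rfl).step (b := 37638) rows4_run45 rfl).step (b := 37766) rows4_run46 rfl).step (b := 37894) rows4_run47 rfl).step (b := 38022) rows4_run48 rfl).step (b := 38150) rows4_run49 rfl).step (b := 38278) rows4_run50 rfl).step (b := 38406) rows4_run51 rfl).step (b := 38534) rows4_run52 rfl).step (b := 38662) rows4_run53 rfl).step (b := 38790) rows4_run54 rfl).step (b := 38918) rows4_run55 rfl).step (b := 39046) rows4_run56 rfl).step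 (b := 39174) rows4_run57 rfl).step (b := 39302) rows4_run58 rfl).step (b := 39430) rows4_run59 rfl).step (b := 39558) rows4_run60 rfl).step (b := 39686) rows4_run61 rfl).step (b := 39814) rows4_run62 rfl).step (b := 39942) rows4_run63 rfl).step (b := 40070) rows4_run64 rfl).step (b := 40198) rows4_run65 rfl).step (b := 40326) rows4_run66 rfl).step (b := 40454) rows4_run67 rfl).step (b := 40582) rows4_run68 rfl).step (b := 40710) rows4_run69 rfl).step (b := 40838) rows4_run70 rfl).step (b := 40966) rows4_run71 rfl).step (b := 41094) rows4_run72 rfl).step (b := 41222) rows4_run73 rfl).step (b := 41350) rows4_run74 rfl).step (b := 41478) rows4_run75 rfl).step (b := 41606) rows4_run76 rfl).step (b := 41734) rows4_run77 rfl).step (b := 41862) rows4_run78 rfl).step (b := 41990) rows4_run79 rfl).step (b := 42118) rows4_run80 rfl).step (b := 42246) rows4_run81 rfl).step (b := 42374) rows4_run82 rfl).step (b := 42502) rows4_run83 rfl).step (b := 42504) rows4_run84 rfl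

end Cfsg.Agent.Lib.J4M24Bound96.Top
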