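import Cfsg.Agent.Lib.J4M24Bound96.Top.Steps1
import Cfsg.Agent.Lib.J4M24Bound96.Top.Steps2
import Cfsg.Agent.Lib.J4M24Bound96.Top.Steps3
import Cfsg.Agent.Lib.J4M24Bound96.Top.Steps4
import Cfsg.Agent.Lib.J4M24Bound96.Top.Rows1
import Cfsg.Agent.Lib.J4M24Bound96.Top.Rows2
import Cfsg.Agent.Lib.J4M24Bound96.Top.Rows3
import Cfsg.Agent.Lib.J4M24Bound96.Top.Rows4

/-! Generated summary (`Top`). -/

namespace Cfsg.Agent.Lib.J4M24Bound96.Top

open Cfsg.Agent.Lib.CosetTable

set_option maxRecDepth 10000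

theorem steps : cert.Upto 78890 := part4 (part3 (part2 (part1 (ICert.Upto.zero _))))

theorem rules_ok : cert.rulesOK cert.cyc cert.C.rules = true := by decide +kernel

theorem words_ok : cert.wordsOK = true := by decide +kernel

theorem cover : ICert.Cover cert tab 78890 where
  same := rfl
  pos := by decide +kernel
  rules := rules_ok
  steps := steps
  rows := rows4 (rows3 (rows2 (rows1 (Below.zero _))))

end Cfsg.Agent.Lib.J4M24Bound96.Top
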